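import Groth.Prelude.Def_GrSeg
import Groth.Agent.Lib.GrLC21.Pieces
import Mathlib.LinearAlgebra.Dual.Lemmas
import Mathlib.RingTheory.Artinian.Module
import Mathlib.RingTheory.FiniteType

/-!
# The graded dual of a graded module over a graded algebra with `R₀ = k`
-/

universe u

open DirectSum

noncomputable section

set_option linter.unusedSectionVars false
set_option backward.isDefEq.respectTransparency false

namespace Groth.Agent.GrDual21

open Groth.Agent.GrLC21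

variable {k : Type u} [Field k] {R : Type u} [CommRing R] [Algebra k R]
  {𝒜 : ℤ → Submodule k R} [GradedAlgebra 𝒜]

theorem algebraMap_mem (c : k) : algebraMap k R c ∈ 𝒜 0 := by
  rw [Algebra.algebraMap_eq_smul_one]
  exact (𝒜 0).smul_mem c SetLike.GradedOne.one_mem

section Piece

variable {M : Type u} [AddCommGroup M] [Module R M] [Module k M] [IsScalarTower k R M]
  (ℳ : ℤ → AddSubgroup M) [Decomposition ℳ] [SetLike.GradedSMul 𝒜 ℳ]

include 𝒜 in
theorem smul_k_mem {g : ℤ} (c : k) {x : M} (hx : x ∈ ℳ g) : c • x ∈ ℳ g := by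
  rw [← IsScalarTower.algebraMap_smul R c x]
  simpa using smul_mem 𝒜 ℳ (algebraMap_mem (𝒜 := 𝒜) c) hx

include 𝒜 in
theorem proj_smul_k (g : ℤ) (c : k) (x : M) : proj ℳ g (c • x) = c • proj ℳ g x := by
  rw [← IsScalarTower.algebraMap_smul R c x, proj_smul 𝒜 ℳ (algebraMap_mem (𝒜 := 𝒜) c), sub_zero,
    IsScalarTower.algebraMap_smul]

variable (𝒜) in
/-- The projection, linear over the field. -/
def projₗ (g : ℤ) : M →ₗ[k] M where
  toFun := proj ℳ g
  map_add' := map_add _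
  map_smul' c x := proj_smul_k (𝒜 := 𝒜) ℳ g c x

variable (𝒜) in
/-- A piece as a subspace. -/
def piece (g : ℤ) : Submodule k M where
  carrier := ℳ g
  add_mem' := add_mem
  zero_mem' := zero_mem _
  smul_mem' c _ hx := smul_k_mem (𝒜 := 𝒜) ℳ c hx

theorem projₗ_apply (g : ℤ) (x : M) : projₗ 𝒜 ℳ g x = proj ℳ g x := rfl

/-- The map from the field to the ring of degree zero. -/
def toDeg0 : k →+* GrLC.deg0 𝒜 := (algebraMap k R).codRestrict _ fun c => algebraMap_mem c

theorem toDeg0_surjective (h0R : 𝒜 0 = Submodule.span k {(1 : R)}) :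
    Function.Surjective (toDeg0 (𝒜 := 𝒜)) := fun ⟨r, hr⟩ => by
  have hr' : r ∈ 𝒜 0 := hr
  rw [h0R, Submodule.mem_span_singleton] at hr'
  obtain ⟨c, rfl⟩ := hr'
  exact ⟨c, Subtype.ext (Algebra.algebraMap_eq_smul_one c)⟩

variable (𝒜) in
/-- The comparison of the two descriptions of a piece. -/
def pieceComp (g : ℤ) : piece 𝒜 ℳ g →ₛₗ[toDeg0 (𝒜 := 𝒜)] GrLC.comp 𝒜 ℳ g where
  toFun x := ⟨x.1, x.2⟩
  map_add' _ _ := rfl
  map_smul' c x := Subtype.ext (IsScalarTower.algebraMap_smul R c (x : M)).symm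

theorem pieceComp_bijective (g : ℤ) : Function.Bijective (pieceComp 𝒜 ℳ g) :=
  ⟨fun _ _ h => Subtype.ext (congrArg Subtype.val h :), fun x => ⟨⟨x.1, x.2⟩, rfl⟩⟩

theorem finite_piece_of_isArtinian (h0R : 𝒜 0 = Submodule.span k {(1 : R)}) [IsArtinian R M] (g : ℤ) :
    Module.Finite k (piece 𝒜 ℳ g) := by
  have : RingHomSurjective (toDeg0 (𝒜 := 𝒜)) := ⟨toDeg0_surjective h0R⟩
  have h := isArtinian_piece (𝒜 := 𝒜) (ℳ := ℳ) g
  have : IsArtinian k (piece 𝒜 ℳ g) :=
    ((pieceComp 𝒜 ℳ g).isArtinian_iff_of_bijective (pieceComp_bijective ℳ g)).2 h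
  let b := Module.Basis.ofVectorSpace k (piece 𝒜 ℳ g)
  have : Finite (Module.Basis.ofVectorSpaceIndex k (piece 𝒜 ℳ g)) :=
    (IsArtinian.finite_of_linearIndependent
      (Module.Basis.ofVectorSpaceIndex.linearIndependent k (piece 𝒜 ℳ g))).to_subtype
  exact Module.Finite.of_basis b

theorem finite_piece_of_finite (h0R : 𝒜 0 = Submodule.span k {(1 : R)}) [IsNoetherianRing R]
    [Module.Finite R M] (g : ℤ) : Module.Finite k (piece 𝒜 ℳ g) := by
  have : RingHomSurjective (toDeg0 (𝒜 := 𝒜)) := ⟨toDeg0_surjective h0R⟩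
  have h := isNoetherian_piece (𝒜 := 𝒜) (ℳ := ℳ) g
  have : IsNoetherian k (piece 𝒜 ℳ g) :=
    ((pieceComp 𝒜 ℳ g).isNoetherian_iff_of_bijective (pieceComp_bijective ℳ g)).2 h
  infer_instance

include ℳ in
/-- The ring is the field plus the irrelevant ideal. -/
theorem exists_eq_algebraMap_add (hposR : ∀ n : ℤ, n < 0 → 𝒜 n = ⊥)
    (h0R : 𝒜 0 = Submodule.span k {(1 : R)}) (r : R) :
    ∃ (c : k), r - algebraMap k R c ∈ Ideal.span (⋃ n ∈ Set.Ioi (0 : ℤ), (𝒜 n : Set R)) := by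
  refine spans_induction (spans_of_decomposition 𝒜) r ⟨0, by simp⟩ ?_ fun g a ha => ?_
  · rintro a b ⟨c, hc⟩ ⟨d, hd⟩
    exact ⟨c + d, by rw [map_add, add_sub_add_comm]; exact add_mem hc hd⟩
  · rcases lt_trichotomy g 0 with hg | rfl | hg
    · rw [hposR g hg, Submodule.mem_bot] at ha
      exact ⟨0, by simp [ha]⟩
    · rw [h0R, Submodule.mem_span_singleton] at ha
      obtain ⟨c, rfl⟩ := ha
      exact ⟨c, by rw [Algebra.algebraMap_eq_smul_one, sub_self]; exact zero_mem _⟩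
    · exact ⟨0, by rw [map_zero, sub_zero]; exact Ideal.subset_span (Set.mem_biUnion hg ha)⟩

end Piece

section Pairing

variable {M : Type u} [AddCommGroup M] [Module R M] [Module k M] [IsScalarTower k R M]
  {ℳ : ℤ → AddSubgroup M} [Decomposition ℳ] [SetLike.GradedSMul 𝒜 ℳ]
  {D : Type u} [AddCommGroup D] [Module R D] [Module k D] [IsScalarTower k R D]
  {𝒟 : ℤ → AddSubgroup D} [Decomposition 𝒟] [SetLike.GradedSMul 𝒜 𝒟]
  {β : D →ₗ[k] M →ₗ[k] k} (hD : GrSeg.IsGDual R ℳ 𝒟 β)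

include hD in
theorem pair_of_mem {n : ℤ} {d : D} (hd : d ∈ 𝒟 n) (x : M) : β d x = β d (proj ℳ (-n) x) := by
  refine spans_induction (spans_of_decomposition ℳ) x (by simp) (fun a b ha hb => by simp [ha, hb])
    fun m a ha => ?_
  rcases eq_or_ne m (-n) with rfl | e
  · rw [proj_of_mem ℳ ha]
  · rw [proj_of_mem_ne ℳ ha e, map_zero, hD.vanish n d hd m e a ha]

include hD in
theorem pair_of_mem_right {m : ℤ} {x : M} (hx : x ∈ ℳ m) (d : D) : β d x = β (proj 𝒟 (-m) d) x := by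
  refine spans_induction (spans_of_decomposition 𝒟) d (by simp) (fun a b ha hb => by simp [ha, hb])
    fun n a ha => ?_
  rcases eq_or_ne n (-m) with rfl | e
  · rw [proj_of_mem 𝒟 ha]
  · rw [proj_of_mem_ne 𝒟 ha e, map_zero, LinearMap.zero_apply,
      hD.vanish n a ha m (fun h => e (by omega)) x hx]

include hD in
theorem ext_left {d d' : D} (h : ∀ x, β d x = β d' x) : d = d' := by
  refine ext_proj 𝒟 fun n => sub_eq_zero.1 ?_
  rw [← map_sub]
  refine hD.eq_zero n _ (proj_mem 𝒟 n _) fun x hx => ?_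
  rw [← neg_neg n, ← pair_of_mem_right hD hx, map_sub, LinearMap.sub_apply, h, sub_self]

include hD 𝒜 in
theorem ext_right {x y : M} (h : ∀ d, β d x = β d y) : x = y := by
  refine ext_proj ℳ fun m => sub_eq_zero.1 ?_
  rw [← map_sub]
  by_contra h0
  obtain ⟨g, hg, -⟩ := Submodule.exists_dual_map_eq_bot_of_notMem (p := (⊥ : Submodule k M))
    (x := proj ℳ m (x - y)) ((Submodule.mem_bot k).not.2 h0) inferInstance
  obtain ⟨d, hd, e⟩ := hD.exists_eq (-m) g
  refine hg ((e _ (by rw [neg_neg]; exact proj_mem ℳ m _)).symm.trans ?_)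
  have h1 := pair_of_mem hD hd (x - y)
  rw [neg_neg, map_sub, h, sub_self] at h1
  exact h1.symm

include hD 𝒜 in
/-- Finite-dimensional pieces are reflexive. -/
theorem exists_rep {n : ℤ} [Module.Finite k (piece 𝒜 ℳ n)] (φ : D →ₗ[k] k)
    (hφ : ∀ m : ℤ, m ≠ -n → ∀ d ∈ 𝒟 m, φ d = 0) : ∃ y ∈ ℳ n, ∀ d, β d y = φ d := by
  let P := piece 𝒜 ℳ n
  let Q := piece 𝒜 𝒟 (-n)
  let F : Q →ₗ[k] Module.Dual k P := (LinearMap.lcomp k k P.subtype).comp (β.comp Q.subtype)
  have hF : Function.Bijective F := by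
    constructor
    · rw [injective_iff_map_eq_zero]
      intro q hq
      refine Subtype.ext (hD.eq_zero (-n) q.1 q.2 fun x hx => ?_)
      exact LinearMap.congr_fun hq ⟨x, by rw [neg_neg] at hx; exact hx⟩
    · intro f
      obtain ⟨g, hg⟩ := LinearMap.exists_extend f
      obtain ⟨d, hd, e⟩ := hD.exists_eq (-n) g
      refine ⟨⟨d, hd⟩, LinearMap.ext fun x => ?_⟩
      exact (e x.1 (by rw [neg_neg]; exact x.2)).trans (LinearMap.congr_fun hg x)
  let e := LinearEquiv.ofBijective F hF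
  let η : Module.Dual k (Module.Dual k P) := (φ.comp Q.subtype).comp e.symm.toLinearMap
  obtain ⟨y, hy⟩ := (Module.bijective_dual_eval k P).2 η
  refine ⟨y.1, y.2, fun d => ?_⟩
  refine spans_induction (spans_of_decomposition 𝒟) d (by simp) (fun a b ha hb => by simp [ha, hb])
    fun m a ha => ?_
  rcases eq_or_ne m (-n) with rfl | e'
  · have h := LinearMap.congr_fun hy (F ⟨a, ha⟩)
    refine h.trans ?_
    show φ (e.symm (e ⟨a, ha⟩)).1 = φ a
    rw [LinearEquiv.symm_apply_apply]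
  · rw [hφ m e' a ha, hD.vanish m a ha n (fun h => e' (by omega)) y.1 y.2]

include hD 𝒜 in
theorem isGDual_flip (hfin : ∀ n, Module.Finite k (piece 𝒜 ℳ n)) :
    GrSeg.IsGDual R 𝒟 ℳ β.flip where
  map_smul r x d := (hD.map_smul r d x).symm
  vanish n x hx m e d hd := hD.vanish m d hd n (fun h => e (by omega)) x hx
  eq_zero n x hx h := by
    refine ext_right hD (𝒜 := 𝒜) fun d => ?_
    rw [map_zero, pair_of_mem_right hD hx d]
    exact h _ (proj_mem 𝒟 (-n) d)
  exists_eq n g := by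
    have := hfin n
    obtain ⟨y, hy, e⟩ := exists_rep hD (𝒜 := 𝒜) (g.comp (projₗ 𝒜 𝒟 (-n)))
      fun m e d hd => by
        show g (proj 𝒟 (-n) d) = 0
        rw [proj_of_mem_ne 𝒟 hd e, map_zero]
    refine ⟨y, hy, fun d hd => (e d).trans ?_⟩
    show g (proj 𝒟 (-n) d) = g d
    rw [proj_of_mem 𝒟 hd]

end Pairing

section Self

variable (𝒜) in
/-- The pieces of the ring as additive subgroups. -/
def selfGr : ℤ → AddSubgroup R := fun g => AddSubgroup.ofClass (𝒜 g)

instance : Decomposition (selfGr 𝒜) :=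
  (isInternal_of_proj (selfGr 𝒜) (proj 𝒜) (fun _ _ hx => proj_of_mem 𝒜 hx)
    (fun _ _ e _ hx => proj_of_mem_ne 𝒜 hx e.symm) (mem_iSup_pieces 𝒜)).chooseDecomposition

instance : SetLike.GradedSMul 𝒜 (selfGr 𝒜) :=
  ⟨fun i j _ x hr hx => SetLike.mul_mem_graded (A := 𝒜) (i := i) (j := j) hr (show x ∈ 𝒜 j from hx)⟩

variable {D : Type u} [AddCommGroup D] [Module R D] [Module k D] [IsScalarTower k R D]
  {𝒟 : ℤ → AddSubgroup D} [Decomposition 𝒟] [SetLike.GradedSMul 𝒜 𝒟]
  {β : D →ₗ[k] R →ₗ[k] k}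

theorem isGDual_self (hD : GrSeg.IsGDual R 𝒜 𝒟 β) : GrSeg.IsGDual R (selfGr 𝒜) 𝒟 β where
  map_smul := hD.map_smul
  vanish := hD.vanish
  eq_zero := hD.eq_zero
  exists_eq := hD.exists_eq

end Self

section Cofree

variable {D : Type u} [AddCommGroup D] [Module R D] [Module k D] [IsScalarTower k R D]
  {𝒟 : ℤ → AddSubgroup D} [Decomposition 𝒟] [SetLike.GradedSMul 𝒜 𝒟]
  {β : D →ₗ[k] R →ₗ[k] k} (hD : GrSeg.IsGDual R 𝒜 𝒟 β)
variable {B : Type u} [AddCommGroup B] [Module R B] [Module k B] [IsScalarTower k R B]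
  {ℬ : ℤ → AddSubgroup B} [Decomposition ℬ] [SetLike.GradedSMul 𝒜 ℬ]

include hD in
/-- Functionals concentrated in one degree give maps into the dual of the ring. -/
theorem exists_cofree_map (μ : B →ₗ[k] k) (s : ℤ) (hμ : ∀ g, g ≠ s → ∀ b ∈ ℬ g, μ b = 0) :
    ∃ h : B →ₗ[R] D, GrLC.IsGrHomDeg ℬ 𝒟 h (-s) ∧ ∀ b r, β (h b) r = μ (r • b) := by
  let T : B → R →ₗ[k] k := fun b => μ.comp (LinearMap.restrictScalars k (LinearMap.toSpanSingleton R B b))
  have hext : ∀ {d d' : D}, (∀ r, β d r = β d' r) → d = d' := fun h => by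
    refine ext_proj 𝒟 fun n => sub_eq_zero.1 ?_
    rw [← map_sub]
    refine hD.eq_zero n _ (proj_mem 𝒟 n _) fun x hx => ?_
    have hz : ∀ d, β d x = β (proj 𝒟 n d) x := fun d => by
      refine spans_induction (spans_of_decomposition 𝒟) d (by simp) (fun a b ha hb => by simp [ha, hb])
        fun m a ha => ?_
      rcases eq_or_ne m n with rfl | e
      · rw [proj_of_mem 𝒟 ha]
      · rw [proj_of_mem_ne 𝒟 ha e, map_zero, LinearMap.zero_apply,
          hD.vanish m a ha (-n) (fun h => e (by omega)) x hx]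
    rw [← hz, map_sub, LinearMap.sub_apply, h, sub_self]
  have hex : ∀ g, ∀ b ∈ ℬ g, ∃ d ∈ 𝒟 (g - s), ∀ r, β d r = μ (r • b) := by
    intro g b hb
    obtain ⟨d, hd, e⟩ := hD.exists_eq (g - s) (T b)
    refine ⟨d, hd, fun r => ?_⟩
    refine spans_induction (spans_of_decomposition 𝒜) r (by simp)
      (fun p q hp hq => by rw [map_add, add_smul, map_add, hp, hq]) fun a t ht => ?_
    rcases eq_or_ne a (-(g - s)) with rfl | e'
    · exact e t ht
    · rw [hD.vanish _ d hd a e' t ht, hμ _ (fun h => e' (by omega)) _ (smul_mem 𝒜 ℬ ht hb)]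
  have hall : ∀ b, ∃ d, ∀ r, β d r = μ (r • b) := fun b => by
    refine spans_induction (spans_of_decomposition ℬ) b ⟨0, by simp⟩ ?_ fun g a ha => ?_
    · rintro a b ⟨p, hp⟩ ⟨q, hq⟩
      exact ⟨p + q, fun r => by simp [hp r, hq r, smul_add]⟩
    · obtain ⟨d, -, hd⟩ := hex g a ha
      exact ⟨d, hd⟩
  choose f hf using hall
  refine ⟨{ toFun := f, map_add' := fun a b => hext fun r => ?_, map_smul' := fun c a => hext fun r => ?_ },
    fun g b hb => ?_, hf⟩
  · simp [hf, smul_add]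
  · rw [RingHom.id_apply, hD.map_smul, hf, hf, smul_eq_mul, mul_comm, mul_smul]
  · obtain ⟨d, hd, e⟩ := hex g b hb
    show f b ∈ 𝒟 (g + -s)
    rw [← sub_eq_add_neg, hext fun r => (hf b r).trans (e r).symm]
    exact hd

end Cofree

end Groth.Agent.GrDual21
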