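import Groth.Agent.Lib.GrDual21.Basic
import Groth.Agent.Lib.GrLC21.Artinian
import Groth.Agent.Lib.GrLC21.StarInj

/-!
# Graded duality between finite and Artinian modules
-/

universe u

open DirectSum

noncomputable section

set_option linter.unusedSectionVars false
set_option backward.isDefEq.respectTransparency false

namespace Groth.Agent.GrDual21

open Groth.Agent.GrLC21

variable {k : Type u} [Field k] {R : Type u} [CommRing R] [Algebra k R]
  {𝒜 : ℤ → Submodule k R} [GradedAlgebra 𝒜]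
variable (hposR : ∀ n : ℤ, n < 0 → 𝒜 n = ⊥) (h0R : 𝒜 0 = Submodule.span k {(1 : R)})
variable {M : Type u} [AddCommGroup M] [Module R M] [Module k M] [IsScalarTower k R M]
  {ℳ : ℤ → AddSubgroup M} [Decomposition ℳ] [SetLike.GradedSMul 𝒜 ℳ]
  {D : Type u} [AddCommGroup D] [Module R D] [Module k D] [IsScalarTower k R D]
  {𝒟 : ℤ → AddSubgroup D} [Decomposition 𝒟] [SetLike.GradedSMul 𝒜 𝒟]
  {β : D →ₗ[k] M →ₗ[k] k} (hD : GrSeg.IsGDual R ℳ 𝒟 β)

include hposR in
theorem hpos' : ∀ n : ℤ, n < 0 → ∀ r ∈ 𝒜 n, r = 0 := fun n hn r hr => by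
  rwa [hposR n hn, Submodule.mem_bot] at hr

include hposR 𝒜 in
theorem exists_lower_bound [Module.Finite R M] : ∃ b : ℤ, ∀ n, n < b → ∀ x ∈ ℳ n, x = 0 := by
  obtain ⟨m, c, v, hv, hspan⟩ := exists_homogeneous_gens ℳ (R := R)
  refine ⟨-∑ i, |c i|, fun n hn x hx => ?_⟩
  obtain ⟨r, hr⟩ := (Submodule.mem_span_range_iff_exists_fun R).1
    (hspan ▸ Submodule.mem_top : x ∈ Submodule.span R (Set.range v))
  rw [← proj_of_mem ℳ hx, ← hr, map_sum]
  refine Finset.sum_eq_zero fun i _ => ?_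
  refine spans_induction (spans_of_decomposition 𝒜) (r i) (by simp)
    (fun p q hp hq => by rw [add_smul, map_add, hp, hq, add_zero]) fun a s hs => ?_
  rcases eq_or_ne (a + c i) n with e | e
  · have h1 : |c i| ≤ ∑ j, |c j| := Finset.single_le_sum (fun j _ => abs_nonneg (c j)) (Finset.mem_univ i)
    rw [hpos' hposR a (by have := neg_abs_le (c i); omega) s hs, zero_smul, map_zero]
  · exact proj_of_mem_ne ℳ (smul_mem 𝒜 ℳ hs (hv i)) e

include hD hposR in
/-- The dual of a finite module is torsion for the irrelevant ideal. -/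
theorem mem_gam_irrelevant [IsNoetherianRing R] [Module.Finite R M] (d : D) :
    d ∈ GrLC.gam (Ideal.span (⋃ n ∈ Set.Ioi (0 : ℤ), (𝒜 n : Set R))) D := by
  obtain ⟨b, hb⟩ := exists_lower_bound (ℳ := ℳ) hposR
  refine spans_induction (spans_of_decomposition 𝒟) d (Submodule.zero_mem _)
    (fun _ _ => Submodule.add_mem _) fun g m hm => ?_
  have hrad : Ideal.span (⋃ n ∈ Set.Ioi (0 : ℤ), (𝒜 n : Set R)) ≤ ((R ∙ m).annihilator).radical := by
    rw [Ideal.span_le]
    intro r hr
    simp only [Set.mem_iUnion, Set.mem_Ioi, SetLike.mem_coe, exists_prop] at hr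
    obtain ⟨a, ha, hr⟩ := hr
    refine ⟨(1 - g - b).toNat, (Submodule.mem_annihilator_span_singleton _ _).2 ?_⟩
    have h2 := smul_mem 𝒜 𝒟 (SetLike.pow_mem_graded (1 - g - b).toNat hr) hm
    refine hD.eq_zero _ _ h2 fun x hx => ?_
    rw [hb _ ?_ x hx, map_zero]
    rw [nsmul_eq_mul]
    have : 1 - g - b ≤ ((1 - g - b).toNat : ℤ) := Int.self_le_toNat _
    nlinarith
  obtain ⟨j, hj⟩ := Ideal.exists_pow_le_of_le_radical_of_fg hrad (IsNoetherian.noetherian _)
  exact ⟨j, fun r hr => (Submodule.mem_annihilator_span_singleton _ _).1 (hj hr)⟩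

include hD hposR h0R in
/-- The dual of a finite module is Artinian. -/
theorem isArtinian_dual [IsNoetherianRing R] [Module.Finite R M] : IsArtinian R D := by
  let J := Ideal.span (⋃ n ∈ Set.Ioi (0 : ℤ), (𝒜 n : Set R))
  refine InjHullLib.isArtinian_of_fg_torsion (IsNoetherian.noetherian J) D
    (fun d => mem_gam_irrelevant hposR hD d) ?_
  let S := Submodule.torsionBySet R D (J : Set R)
  obtain ⟨m, v, hv⟩ := Module.Finite.exists_fin (R := R) (M := M)
  let Φ : S →ₗ[k] (Fin m → k) := LinearMap.pi fun i => (β.flip (v i)).comp (S.subtype.restrictScalars k)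
  have hΦ : Function.Injective Φ := by
    rw [injective_iff_map_eq_zero]
    intro s hs
    refine Subtype.ext (ext_left hD fun x => ?_)
    rw [ZeroMemClass.coe_zero, map_zero, LinearMap.zero_apply]
    obtain ⟨r, hr⟩ := (Submodule.mem_span_range_iff_exists_fun R).1
      (hv ▸ Submodule.mem_top : x ∈ Submodule.span R (Set.range v))
    rw [← hr, map_sum]
    refine Finset.sum_eq_zero fun i _ => ?_
    obtain ⟨c, hc⟩ := exists_eq_algebraMap_add (𝒜 := 𝒜) (fun n : ℤ => ℳ n) hposR h0R (r i)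
    have h1 : (r i - algebraMap k R c) • (s : D) = 0 := InjHullLib.mem_torsion_iff.1 s.2 _ hc
    rw [sub_smul, sub_eq_zero, IsScalarTower.algebraMap_smul] at h1
    rw [← hD.map_smul, h1, map_smul, LinearMap.smul_apply]
    exact (congrArg (c • ·) (congrFun hs i : β s.1 (v i) = 0)).trans (smul_zero c)
  have : Module.Finite k S := Module.Finite.of_injective Φ hΦ
  have hA : IsArtinian k S := inferInstance
  exact isArtinian_of_tower k hA

include hD h0R hposR in
/-- The dual of an Artinian module is finite. -/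
theorem finite_dual [IsArtinian R M] : Module.Finite R D := by
  have hfin := finite_piece_of_isArtinian (ℳ := ℳ) h0R
  let perp : Submodule R D → Submodule R M := fun N =>
    { carrier := {x | ∀ d ∈ N, β d x = 0}
      zero_mem' := fun d _ => map_zero _
      add_mem' := fun hx hy d hd => by rw [map_add, hx d hd, hy d hd, add_zero]
      smul_mem' := fun r x hx d hd => by rw [← hD.map_smul]; exact hx _ (N.smul_mem r hd) }
  let S : Set (Submodule R M) := {P | ∃ N : Submodule R D, N.IsHomogeneous 𝒟 ∧ N.FG ∧ perp N = P}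
  obtain ⟨_, ⟨N, hN, hNfg, rfl⟩, hmin⟩ := (IsArtinian.set_has_minimal (R := R) (M := M) S
    ⟨_, ⊥, isHomogeneous_bot _, Submodule.fg_bot, rfl⟩)
  suffices N = ⊤ from ⟨this ▸ hNfg⟩
  refine eq_top_iff.2 (le_of_homogeneous (isHomogeneous_top 𝒟) fun n d hd _ => by_contra fun hdN => ?_)
  obtain ⟨g, hg, hgN⟩ := Submodule.exists_dual_map_eq_bot_of_notMem (p := N.restrictScalars k) (x := d)
    hdN inferInstance
  have := hfin (-n)
  obtain ⟨x, -, hx⟩ := exists_rep hD (𝒜 := 𝒜) (n := -n) (g.comp (projₗ 𝒜 𝒟 n)) fun m e d' hd' => by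
    show g (proj 𝒟 n d') = 0
    rw [proj_of_mem_ne 𝒟 hd' (fun h => e (by omega)), map_zero]
  have hxN : x ∈ perp N := fun d' hd' => by
    rw [hx]
    show g (proj 𝒟 n d') = 0
    exact (Submodule.mem_bot k).1 (hgN ▸ ⟨_, hN n hd', rfl⟩)
  refine hmin (perp (N ⊔ R ∙ d)) ⟨_, isHomogeneous_sup hN (isHomogeneous_span_singleton 𝒜 hd),
    hNfg.sup (Submodule.fg_span_singleton d), rfl⟩ ?_
  refine lt_of_le_not_ge (fun y hy d' hd' => hy d' (Submodule.mem_sup_left hd')) fun h => hg ?_
  have h2 := h hxN d (Submodule.mem_sup_right (Submodule.mem_span_singleton_self d))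
  rw [hx] at h2
  rwa [LinearMap.comp_apply, projₗ_apply, proj_of_mem 𝒟 hd] at h2

include hD in
theorem dualMap_grHom {F : Type u} [AddCommGroup F] [Module R F] [Module k F] [IsScalarTower k R F]
    {ℱ : ℤ → AddSubgroup F} [Decomposition ℱ] [SetLike.GradedSMul 𝒜 ℱ]
    {E : Type u} [AddCommGroup E] [Module R E] [Module k E] [IsScalarTower k R E]
    {ℰ : ℤ → AddSubgroup E} [Decomposition ℰ] [SetLike.GradedSMul 𝒜 ℰ]
    {γ : E →ₗ[k] F →ₗ[k] k} (hE : GrSeg.IsGDual R ℱ ℰ γ) {f : F →ₗ[R] M} (hf : GrLC.IsGrHom ℱ ℳ f)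
    {g : D →ₗ[R] E} (hg : GrSeg.IsGDualMap β γ f g) : GrLC.IsGrHom 𝒟 ℰ g := fun n d hd => by
  rw [show g d = proj ℰ n (g d) from ext_left hE fun x => ?_]
  · exact proj_mem ℰ n _
  refine spans_induction (spans_of_decomposition ℱ) x (by simp) (fun a b ha hb => by simp [ha, hb])
    fun m a ha => ?_
  rcases eq_or_ne n (-m) with rfl | e
  · exact pair_of_mem_right hE ha _
  · rw [hE.vanish n _ (proj_mem ℰ n _) m (fun h => e (by omega)) a ha, hg,
      hD.vanish n d hd m (fun h => e (by omega)) _ (hf m a ha)]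

end Groth.Agent.GrDual21
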