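import Groth.Agent.Lib.GrDual21.Basic
import Groth.Agent.Lib.GrLC21.TopRightExact

/-!
# The graded dual of the top cohomology of a module
-/

universe u

open DirectSum

noncomputable section

set_option linter.unusedSectionVars false
set_option maxHeartbeats 1000000

namespace Groth.Agent.GrDual21

open Groth.Agent.GrLC21

variable {k : Type u} [Field k] {R : Type u} [CommRing R] [Algebra k R] [IsNoetherianRing R]
  {𝒜 : ℤ → Submodule k R} [GradedAlgebra 𝒜]
  {m : HomogeneousIdeal 𝒜} {n : ℕ}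
  (hvan : ∀ (X : GrLC.GMod.{u} 𝒜), Module.Finite R X.carrier → ∀ g, Van m (n + 1) g X)
  {I : GrLC.StarInjRes 𝒜 𝒜} [Module k (I.H m n)] [IsScalarTower k R (I.H m n)]
  [Decomposition (I.Hgr m n)]
  {K : Type u} [AddCommGroup K] [Module R K] [Module k K] [IsScalarTower k R K]
  {𝒦 : ℤ → AddSubgroup K} [Decomposition 𝒦] [SetLike.GradedSMul 𝒜 𝒦]
  {βK : K →ₗ[k] I.H m n →ₗ[k] k} (hK : GrSeg.IsGDual R (I.Hgr m n) 𝒦 βK)
  {M : Type u} [AddCommGroup M] [Module R M]
  {ℳ : ℤ → AddSubgroup M} [Decomposition ℳ] [SetLike.GradedSMul 𝒜 ℳ] [Module.Finite R M]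
  {EM : GrLC.StarInjRes 𝒜 ℳ} [Module k (EM.H m n)] [IsScalarTower k R (EM.H m n)]
  [Decomposition (EM.Hgr m n)]
  {D : Type u} [AddCommGroup D] [Module R D] [Module k D] [IsScalarTower k R D]
  {𝒟 : ℤ → AddSubgroup D} [Decomposition 𝒟] [SetLike.GradedSMul 𝒜 𝒟]
  {βD : D →ₗ[k] EM.H m n →ₗ[k] k} (hD : GrSeg.IsGDual R (EM.Hgr m n) 𝒟 βD)

include hvan hK hD in
set_option maxHeartbeats 2000000 in
/-- The graded dual of the top cohomology of a module consists of the maps to the dual of that of the ring. -/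
theorem exists_dual_top_equiv_hom : ∃ ε : D ≃ₗ[R] (M →ₗ[R] K),
    GrLC.IsGrHom 𝒟 (fun d : ℤ => (GrLC.homDeg 𝒜 ℳ 𝒦 d).toAddSubgroup) ε.toLinearMap := by
  classical
  haveI : SetLike.GradedSMul 𝒜 (I.Hgr m n) := ⟨fun {h g r x} hr hx => smul_mem_Hgr I m h g r x hr hx⟩
  haveI : SetLike.GradedSMul 𝒜 (EM.Hgr m n) := ⟨fun {h g r x} hr hx => smul_mem_Hgr EM m h g r x hr hx⟩
  let μ : M →ₗ[R] I.H m n →ₗ[R] EM.H m n := mu (toGModRes I) EM m n
  have hμdeg : ∀ {g h : ℤ} {a : M}, a ∈ ℳ g → ∀ {x : I.H m n}, x ∈ I.Hgr m n h → μ a x ∈ EM.Hgr m n (g + h) :=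
    fun ha _ hx => mu_mem_Hgr (toGModRes I) EM ha hx
  obtain ⟨t, b, v, -, -, hsur⟩ := exists_mu_surjective (toGModRes I) EM hvan
  have hsur' : ∀ y : EM.H m n, ∃ z : Fin t → I.H m n, y = ∑ i, μ (v i) (z i) := hsur
  have hextK : ∀ {p q : K}, (∀ x, βK p x = βK q x) → p = q := fun h => ext_left hK h
  -- the value on each element of the module
  have hex : ∀ (d : D) (a : M), ∃ p : K, ∀ x, βK p x = βD d (μ a x) := by
    intro d a
    refine spans_induction (P := fun d => ∃ p : K, ∀ x, βK p x = βD d (μ a x)) (spans_of_decomposition 𝒟) d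
      ⟨0, fun x => by simp⟩ (fun d d' ⟨p, hp⟩ ⟨q, hq⟩ => ⟨p + q, fun x => by simp [hp, hq]⟩) fun e d hd => ?_
    refine spans_induction (P := fun a => ∃ p : K, ∀ x, βK p x = βD d (μ a x)) (spans_of_decomposition ℳ) a
      ⟨0, fun x => by simp⟩ (fun a a' ⟨p, hp⟩ ⟨q, hq⟩ => ⟨p + q, fun x => by simp [hp, hq]⟩) fun g a ha => ?_
    obtain ⟨p, hp, hpe⟩ := hK.exists_eq (e + g) ((βD d).comp ((μ a).restrictScalars k))
    refine ⟨p, fun x => ?_⟩
    refine spans_induction (P := fun x => βK p x = βD d (μ a x)) (spans_of_decomposition (I.Hgr m n)) x (by simp)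
      (fun a b ha hb => by simp only [map_add, ha, hb]) fun h x hx => ?_
    by_cases hh : e + g + h = 0
    · exact hpe x (by rwa [show -(e + g) = h by omega])
    · rw [hK.vanish _ p hp h (by omega) x hx, hD.vanish e d hd (g + h) (by omega) _ (hμdeg ha hx)]
  choose p hp using hex
  let ε : D →ₗ[R] (M →ₗ[R] K) :=
    { toFun := fun d =>
        { toFun := p d
          map_add' := fun a a' => hextK fun x => by simp only [map_add, LinearMap.add_apply, hp]
          map_smul' := fun r a => hextK fun x => by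
            rw [RingHom.id_apply, hK.map_smul, hp, hp, map_smul μ r a, LinearMap.smul_apply, map_smul (μ a) r x] }
      map_add' := fun d d' => LinearMap.ext fun a => hextK fun x => by
        show βK (p (d + d') a) x = βK (p d a + p d' a) x
        simp only [map_add, LinearMap.add_apply, hp]
      map_smul' := fun r d => LinearMap.ext fun a => hextK fun x => by
        show βK (p (r • d) a) x = βK (r • p d a) x
        rw [hK.map_smul, hp, hp, hD.map_smul, map_smul (μ a) r x] }
  have hε : ∀ d a x, βK (ε d a) x = βD d (μ a x) := hp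
  have hgr : GrLC.IsGrHom 𝒟 (fun d : ℤ => (GrLC.homDeg 𝒜 ℳ 𝒦 d).toAddSubgroup) ε := by
    intro e d hd g a ha
    -- the value is homogeneous
    obtain ⟨q, hq, hqe⟩ := hK.exists_eq (g + e) ((βD d).comp ((μ a).restrictScalars k))
    have : ε d a = q := hextK fun x => by
      rw [hε]
      refine spans_induction (P := fun x => βD d (μ a x) = βK q x) (spans_of_decomposition (I.Hgr m n)) x (by simp)
        (fun a b ha hb => by simp only [map_add, ha, hb]) fun h x hx => ?_
      by_cases hh : g + e + h = 0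
      · exact (hqe x (by rwa [show -(g + e) = h by omega])).symm
      · rw [hK.vanish _ q hq h (by omega) x hx, hD.vanish e d hd (g + h) (by omega) _ (hμdeg ha hx)]
    rw [this]
    exact hq
  refine ⟨LinearEquiv.ofBijective ε ⟨?_, fun f => ?_⟩, hgr⟩
  · refine (injective_iff_map_eq_zero ε).2 fun d hd => ext_left hD fun y => ?_
    obtain ⟨z, rfl⟩ := hsur' y
    rw [map_zero, LinearMap.zero_apply, map_sum]
    refine Finset.sum_eq_zero fun i _ => ?_
    rw [← hε, hd, LinearMap.zero_apply, map_zero, LinearMap.zero_apply]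
  · obtain ⟨S, hS⟩ := exists_sum_homComp 𝒜 ℳ 𝒦 f
    suffices h : ∀ e (f : M →ₗ[R] K), GrLC.IsGrHomDeg ℳ 𝒦 f e → ∃ d, ε d = f by
      choose d hd using fun e => h e _ (homComp_grHomDeg 𝒜 ℳ 𝒦 f e)
      exact ⟨∑ e ∈ S, d e, by rw [map_sum]; simp only [hd]; exact hS.symm⟩
    intro e f hf
    obtain ⟨φ, hφ⟩ := exists_lift_balanced (toGModRes I) EM hvan
      (AddMonoidHom.mk' (fun a => (βK (f a)).toAddMonoidHom) fun a a' =>
        AddMonoidHom.ext fun x => LinearMap.congr_fun ((congrArg βK (map_add f a a')).trans (map_add βK _ _)) x)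
      (fun r a x => (congrArg (fun p => βK p x) (map_smul f r a)).trans (hK.map_smul r (f a) x))
    have hφ' : ∀ a x, φ (μ a x) = βK (f a) x := hφ
    have hsm : ∀ (c : k) (x : I.H m n) a, μ a (c • x) = c • μ a x := fun c x a =>
      ((μ a).restrictScalars k).map_smul c x
    let φk : EM.H m n →ₗ[k] k :=
      { toFun := φ, map_add' := map_add φ
        map_smul' := fun c y => by
          obtain ⟨z, rfl⟩ := hsur' y
          rw [Finset.smul_sum, map_sum, map_sum, RingHom.id_apply, Finset.smul_sum]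
          refine Finset.sum_congr rfl fun i _ => ?_
          rw [← hsm, hφ', hφ', map_smul] }
    obtain ⟨d, hd, hde⟩ := hD.exists_eq e φk
    refine ⟨d, LinearMap.ext fun a => ?_⟩
    refine spans_induction (P := fun a => ε d a = f a) (spans_of_decomposition ℳ) a
      ((map_zero (ε d)).trans (map_zero f).symm)
      (fun a b ha hb => by rw [map_add, map_add, ha, hb]) fun g a ha => ?_
    refine hextK fun x => ?_
    rw [hε]
    refine spans_induction (P := fun x => βD d (μ a x) = βK (f a) x) (spans_of_decomposition (I.Hgr m n)) x (by simp)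
      (fun a b ha hb => by simp only [map_add, ha, hb]) fun h x hx => ?_
    by_cases hh : g + h + e = 0
    · exact (hde _ (by rw [show -e = g + h by omega]; exact hμdeg ha hx)).trans (hφ' a x)
    · rw [hD.vanish e d hd (g + h) (by omega) _ (hμdeg ha hx), hK.vanish _ (f a) (hf g a ha) h (by omega) x hx]

end Groth.Agent.GrDual21
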